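import Cfsg.Agent.Mrg.Omega.NSix.HTwo.Vec
import Cfsg.Agent.Mrg.Omega.Half.Basic

section


/-!
# GammaFF, (S1), `q₀ = 2`: transvections in `S` on a module with a radical (helper480)

`Tvc V a r` : `a` acts on `V` as a transvection with centre `r`.

* `Tvc.off` : `⟨a⟩` is an offender;
* `nat_form`, `nat_conj`, `nat_move` : natural modules (`M : NatKM F S R V D k`, `D` arbitrary);
-/

set_option autoImplicit false

namespace Cfsg.Agent.Omega.NO3S.SOne.PU

open Subgroup Cfsg Cfsg.Agent.ZN.ChoiceBase Cfsg.Agent.ZN.ChoiceSit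
open Cfsg.Agent.Omega.FFThm
open Cfsg.Agent.Omega.NO3S.ThmB
open Cfsg.Agent.Lib.SL2Mat
open Cfsg.Agent.Omega.NatPair (ap)

universe u

variable {G : Type u} [Group G]

/-- `a` acts on `V` as a transvection with centre `r` -/
structure Tvc (V : Subgroup G) (a r : G) : Prop where
  cm : ∀ v ∈ V, a * v * a⁻¹ = v ∨ a * v * a⁻¹ = r * v
  mv : ∃ v ∈ V, a * v * a⁻¹ ≠ v

namespace Tvc

variable {V : Subgroup G} {a b r s : G}

theorem ne (h : Tvc V a r) : r ≠ 1 := by
  rintro rfl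
  obtain ⟨v, hv, hn⟩ := h.mv
  rcases h.cm v hv with h1 | h1
  · exact hn h1
  · exact hn (by rw [h1, one_mul])

theorem ex (h : Tvc V a r) : ∃ v ∈ V, a * v * a⁻¹ = r * v := by
  obtain ⟨v, hv, hn⟩ := h.mv
  exact ⟨v, hv, (h.cm v hv).resolve_left hn⟩

theorem mem (h : Tvc V a r) (ha : a ∈ normalizer (V : Set G)) : r ∈ V := by
  obtain ⟨v, hv, h1⟩ := h.ex
  have h2 : a * v * a⁻¹ ∈ V := (mem_normalizer_iff.1 ha v).1 hv
  rw [h1] at h2
  exact (V.mul_mem_cancel_right hv).1 h2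

theorem conj (h : Tvc V a r) {g : G} (hg : g ∈ normalizer (V : Set G)) : Tvc V (g * a * g⁻¹) (g * r * g⁻¹) := by
  have hg' : g⁻¹ ∈ normalizer (V : Set G) := inv_mem hg
  refine ⟨fun v hv => ?_, ?_⟩
  · have hw : g⁻¹ * v * g⁻¹⁻¹ ∈ V := (mem_normalizer_iff.1 hg' v).1 hv
    rcases h.cm _ hw with h1 | h1
    · left
      calc g * a * g⁻¹ * v * (g * a * g⁻¹)⁻¹ = g * (a * (g⁻¹ * v * g⁻¹⁻¹) * a⁻¹) * g⁻¹ := by group
        _ = v := by rw [h1]; group
    · right
      calc g * a * g⁻¹ * v * (g * a * g⁻¹)⁻¹ = g * (a * (g⁻¹ * v * g⁻¹⁻¹) * a⁻¹) * g⁻¹ := by group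
        _ = g * r * g⁻¹ * v := by rw [h1]; group
  · obtain ⟨v, hv, hn⟩ := h.mv
    refine ⟨g * v * g⁻¹, (mem_normalizer_iff.1 hg v).1 hv, fun h1 => hn ?_⟩
    have e : g * a * g⁻¹ * (g * v * g⁻¹) * (g * a * g⁻¹)⁻¹ = g * (a * v * a⁻¹) * g⁻¹ := by group
    rw [e] at h1
    exact mul_left_cancel (mul_right_cancel h1)

/-- the action determines the centre -/
theorem eq (h : Tvc V a r) (h' : Tvc V b s) (hs : ∀ v ∈ V, a * v * a⁻¹ = b * v * b⁻¹) : r = s := by
  obtain ⟨v, hv, hn⟩ := h.mv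
  have h1 := (h.cm v hv).resolve_left hn
  have h2 := (h'.cm v hv).resolve_left (by rw [← hs v hv]; exact hn)
  rw [hs v hv, h2] at h1
  exact (mul_right_cancel h1).symm

theorem fixr (h : Tvc V a r) (hV : IsElementaryAbelian 2 V) (ha : a ∈ normalizer (V : Set G)) :
    a * r * a⁻¹ = r := by
  rcases h.cm r (h.mem ha) with h1 | h1
  · exact h1
  · exfalso
    have h2 : r * r = 1 := by
      have := hV.2 r (h.mem ha)
      rwa [pow_two] at this
    rw [h2] at h1
    have h3 : a * r = a := mul_inv_eq_one.1 h1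
    exact h.ne (mul_eq_left.1 h3)

theorem sq (h : Tvc V a r) (hV : IsElementaryAbelian 2 V) (ha : a ∈ normalizer (V : Set G)) :
    a ^ 2 ∈ centralizer (V : Set G) := by
  have h2 : r * r = 1 := by
    have := hV.2 r (h.mem ha)
    rwa [pow_two] at this
  rw [mem_centralizer_iff]
  intro v hv
  have h3 : a * (a * v * a⁻¹) * a⁻¹ = v := by
    rcases h.cm v hv with h1 | h1
    · rw [h1, h1]
    · rw [h1]
      calc a * (r * v) * a⁻¹ = (a * r * a⁻¹) * (a * v * a⁻¹) := by group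
        _ = r * r * v := by rw [h.fixr hV ha, h1, mul_assoc]
        _ = v := by rw [h2, one_mul]
  have h4 : a ^ 2 * v * (a ^ 2)⁻¹ = v := by
    calc a ^ 2 * v * (a ^ 2)⁻¹ = a * (a * v * a⁻¹) * a⁻¹ := by rw [pow_two]; group
      _ = v := h3
  rw [mul_inv_eq_iff_eq_mul] at h4
  exact h4.symm

theorem zp (h : Tvc V a r) (hV : IsElementaryAbelian 2 V) (ha : a ∈ normalizer (V : Set G)) {x : G}
    (hx : x ∈ zpowers a) : (∀ v ∈ V, x * v * x⁻¹ = v) ∨ ∀ v ∈ V, x * v * x⁻¹ = a * v * a⁻¹ := by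
  obtain ⟨n, rfl⟩ := mem_zpowers_iff.1 hx
  have h2 : ∀ j : ℤ, ∀ v ∈ V, a ^ (2 * j) * v * (a ^ (2 * j))⁻¹ = v := by
    intro j v hv
    have h3 : a ^ (2 * j) ∈ centralizer (V : Set G) := by
      rw [zpow_mul, zpow_ofNat]
      exact zpow_mem (h.sq hV ha) j
    rw [← mem_centralizer_iff.1 h3 v hv, mul_inv_cancel_right]
  rcases Int.even_or_odd' n with ⟨j, rfl | rfl⟩
  · exact Or.inl (h2 j)
  · right
    intro v hv
    have e : a ^ (2 * j + 1) = a * a ^ (2 * j) := by rw [add_comm, zpow_add, zpow_one]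
    rw [e]
    calc a * a ^ (2 * j) * v * (a * a ^ (2 * j))⁻¹ = a * (a ^ (2 * j) * v * (a ^ (2 * j))⁻¹) * a⁻¹ := by group
      _ = a * v * a⁻¹ := by rw [h2 j v hv]

theorem mem_cent_iff {x : G} (v : G) : x ∈ centralizer ({v} : Set G) ↔ x * v * x⁻¹ = v := by
  rw [mem_centralizer_singleton_iff, mul_inv_eq_iff_eq_mul]

/-- a transvection is an offender -/
theorem off [Finite G] (h : Tvc V a r) (hV : IsElementaryAbelian 2 V) (ha : a ∈ normalizer (V : Set G)) :
    OffM V (zpowers a) where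
  sq := by
    intro x hx
    obtain ⟨n, rfl⟩ := mem_zpowers_iff.1 hx
    have e : (a ^ n) ^ 2 = (a ^ 2) ^ n := by
      rw [← zpow_natCast, ← zpow_natCast, ← zpow_mul, ← zpow_mul, mul_comm]
    rw [e]
    exact zpow_mem (h.sq hV ha) n
  comm := by
    intro x hx y hy
    obtain ⟨n, rfl⟩ := mem_zpowers_iff.1 hx
    obtain ⟨m, rfl⟩ := mem_zpowers_iff.1 hy
    have e : a ^ n * a ^ m * (a ^ n)⁻¹ * (a ^ m)⁻¹ = 1 := by
      rw [← zpow_add, add_comm, zpow_add]; group
    rw [e]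
    exact one_mem _
  ne := by
    intro h1
    obtain ⟨v, hv, hn⟩ := h.mv
    apply hn
    rw [← mem_centralizer_iff.1 (h1 (mem_zpowers a)) v hv, mul_inv_cancel_right]
  le := by
    rw [relIndex_le_iff]
    have h1 : (centralizer ((zpowers a : Subgroup G) : Set G)).relIndex V = 2 := by
      rw [Subgroup.relIndex_eq_two_iff]
      obtain ⟨w, hw, hn⟩ := h.mv
      have hw1 := (h.cm w hw).resolve_left hn
      have hmem : ∀ v ∈ V, v ∈ centralizer ((zpowers a : Subgroup G) : Set G) ↔ a * v * a⁻¹ = v := by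
        intro v _
        constructor
        · intro h2
          rw [mem_centralizer_iff.1 h2 a (mem_zpowers a), mul_inv_cancel_right]
        · intro h2
          rw [mem_centralizer_iff]
          intro x hx
          obtain ⟨n, rfl⟩ := mem_zpowers_iff.1 hx
          have h3 : Commute a v := mul_inv_eq_iff_eq_mul.1 h2
          exact (h3.zpow_left n).eq
      refine ⟨w, hw, fun v hv => ?_⟩
      rw [hmem _ (mul_mem hv hw), hmem v hv]
      have e : a * (v * w) * a⁻¹ = (a * v * a⁻¹) * (a * w * a⁻¹) := by group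
      rw [e, hw1]
      have hr2 : r * r = 1 := by
        have := hV.2 r (h.mem ha)
        rwa [pow_two] at this
      have hcomm : ∀ x ∈ V, ∀ y ∈ V, x * y = y * x := fun x hx y hy =>
        congrArg Subtype.val (hV.1.is_comm.comm ⟨x, hx⟩ ⟨y, hy⟩)
      rcases h.cm v hv with h2 | h2
      · right
        refine ⟨h2, fun h3 => h.ne ?_⟩
        rw [h2] at h3
        have h4 : v * (r * w) = r * (v * w) := by
          rw [← mul_assoc, hcomm v hv r (h.mem ha), mul_assoc]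
        rw [h4] at h3
        exact mul_eq_right.1 h3
      · left
        refine ⟨?_, fun h3 => h.ne ?_⟩
        · rw [h2]
          calc r * v * (r * w) = r * (v * r) * w := by group
            _ = r * (r * v) * w := by rw [hcomm v hv r (h.mem ha)]
            _ = r * r * (v * w) := by group
            _ = v * w := by rw [hr2, one_mul]
        · rw [h2] at h3
          exact mul_eq_right.1 h3
    rw [h1]
    have h2 : (centralizer (V : Set G)).relIndex (zpowers a) ≠ 0 := Subgroup.index_ne_zero_of_finite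
    have h3 : (centralizer (V : Set G)).relIndex (zpowers a) ≠ 1 := by
      rw [Ne, relIndex_eq_one]
      intro h1
      obtain ⟨v, hv, hn⟩ := h.mv
      apply hn
      rw [← mem_centralizer_iff.1 (h1 (mem_zpowers a)) v hv, mul_inv_cancel_right]
    omega

end Tvc

/-! ### Natural modules -/

section nat

variable [Finite G] {F : Type} [Field F] [CharP F 2] {S R V D : Subgroup G} {k : ℕ} {M : NatKM F S R V D k}

/-- a transvection in `S` acts as the transvection of one block, and `|F| = 2` -/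
theorem nat_form (h : Nb M) {a r : G} (ha : a ∈ S) (t : Tvc V a r) :
    ∃ i, ActsSL M.e V D a (sg i (up 1)) ∧ (∀ c : F, c ≠ 0 → c = 1) ∧ M.e r i = ![1, 0] ∧
      ∀ l, l ≠ i → M.e r l = 0 := by
  have haR : a ∈ R := h.SP' ha
  have haV : a ∈ normalizer (V : Set G) := h.VP' haR
  have hr : r ∈ V := t.mem haV
  obtain ⟨I, h1, h2⟩ := M.offM (zpowers a) (zpowers_le.2 ha) (t.off h.V2 haV)
  obtain ⟨b, hb, hab⟩ := h1 a (mem_zpowers a)
  obtain ⟨i, hi⟩ : ∃ i, b i ≠ 0 := by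
    by_contra hcon
    push Not at hcon
    obtain ⟨v, hv, hn⟩ := t.mv
    apply hn
    rw [mul_inv_eq_iff_eq_mul]
    refine h.comm_of_one haR ?_ hv
    have e : (fun i => up (b i)) = (1 : Fin k → Matrix.SpecialLinearGroup (Fin 2) F) := by
      funext l
      rw [hcon l, up_zero]
      rfl
    rwa [e] at hab
  have key : ∀ j, b j ≠ 0 → M.e r j = ![b j, 0] ∧ ∀ l, l ≠ j → M.e r l = 0 := by
    intro j hj
    obtain ⟨v, hv, hvj, hvl⟩ := Nb.exists_single M j ![0, 1]
    have h3 : M.e (a * v * a⁻¹) j = ![b j, 1] := by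
      rw [hab.1 v hv j, hvj]
      exact vec_eq (by rw [ap_up_0]; simp) (by rw [ap_up_1]; simp)
    have h4 : a * v * a⁻¹ ≠ v := by
      intro h5
      rw [h5, hvj] at h3
      exact hj (congrFun h3 0).symm
    have h5 := (t.cm v hv).resolve_left h4
    have h6 : ∀ l, M.e r l = M.e (a * v * a⁻¹) l + M.e v l := by
      intro l
      rw [h5, M.mul r hr v hv, Pi.add_apply]
      have : M.e v l + M.e v l = 0 := by
        funext x
        exact CharTwo.add_self_eq_zero _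
      rw [add_assoc, this, add_zero]
    refine ⟨?_, fun l hl => ?_⟩
    · rw [h6, h3, hvj]
      refine vec_eq ?_ ?_
      · simp
      · simp only [Pi.add_apply, Matrix.cons_val_one, Matrix.cons_val_zero]
        exact CharTwo.add_self_eq_zero _
    · rw [h6, hab.1 v hv l, hvl l hl, ap_zr, add_zero]
  have huniq : ∀ l, l ≠ i → b l = 0 := by
    intro l hl
    by_contra hc
    have h3 := (key i hi).2 l hl
    rw [(key l hc).1] at h3
    exact hc (congrFun h3 0)
  have hiI : i ∈ I := by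
    by_contra hc
    exact hi (hb i hc)
  obtain ⟨v, hv, hvi, hvl⟩ := Nb.exists_single M i ![0, 1]
  have hall : ∀ c : F, c = 0 ∨ c = b i := by
    intro c
    obtain ⟨x, hx, hxa⟩ := h2 (Pi.single i c) fun l hl => by
      rw [Pi.single_eq_of_ne]
      rintro rfl
      exact hl hiI
    have h3 := h.up_entry hxa hv hvi
    rw [Pi.single_eq_same] at h3
    rcases t.zp h.V2 haV hx with h4 | h4
    · left
      rw [h4 v hv, hvi] at h3
      exact h3.symm
    · right
      rw [h4 v hv, h.up_entry hab hv hvi] at h3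
      exact h3.symm
  have hb1 : b i = 1 := ((hall 1).resolve_left one_ne_zero).symm
  refine ⟨i, ?_, fun c hc => by rw [(hall c).resolve_left hc, hb1], ?_, (key i hi).2⟩
  · have e : (fun l => up (b l)) = sg i (up (1 : F)) := by
      funext l
      by_cases hl : l = i
      · subst hl
        rw [sg_self, hb1]
      · rw [sg_ne hl, huniq l hl, up_zero]
    rwa [e] at hab
  · rw [(key i hi).1, hb1]

omit [Finite G] [CharP F 2] in
theorem vec_ne : (![1, 0] : Fin 2 → F) ≠ 0 := fun h => one_ne_zero (congrFun h 0)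

/-- the centres of the transvections in `S` are conjugate -/
theorem nat_conj (h : Nb M) {a r b s : G} (ha : a ∈ S) (hb : b ∈ S) (t : Tvc V a r) (t' : Tvc V b s) :
    ∃ x ∈ S, s = x * r * x⁻¹ := by
  obtain ⟨i, hi, -, hri, -⟩ := nat_form h ha t
  obtain ⟨j, hj, -, -, -⟩ := nat_form h hb t'
  obtain ⟨x, hx, hxe⟩ := M.trans i j
  have hxV : x ∈ normalizer (V : Set G) := h.VP' (h.SP' hx)
  have hxa : x * a * x⁻¹ ∈ S := mul_mem (mul_mem hx ha) (inv_mem hx)
  obtain ⟨l, hl, -, -, hrl⟩ := nat_form h hxa (t.conj hxV)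
  have hlj : j = l := by
    by_contra hne
    have h1 := (hxe r (t.mem (h.VP' (h.SP' ha)))).1 (hrl j hne)
    rw [hri] at h1
    exact vec_ne h1
  subst hlj
  exact ⟨x, hx, t'.eq (t.conj hxV) fun v hv => h.same (h.SP' hb) (h.SP' hxa) hj hl hv⟩

/-- an element which moves the centre of `a` and fixes all its other conjugates under `S` -/
theorem nat_move (h : Nb M) {a r : G} (ha : a ∈ S) (t : Tvc V a r) :
    ∃ g ∈ R, g * r * g⁻¹ ≠ r ∧ ∀ s ∈ S, s * r * s⁻¹ ≠ r → g * (s * r * s⁻¹) * g⁻¹ = s * r * s⁻¹ := by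
  obtain ⟨i, hi, -, hri, -⟩ := nat_form h ha t
  obtain ⟨g, hg, hgA⟩ := M.lift (sg i (lo 1))
  have hrV := t.mem (h.VP' (h.SP' ha))
  refine ⟨g, hg, fun h1 => ?_, fun s hs hne => ?_⟩
  · have h2 := hgA.1 r hrV i
    rw [h1, hri, sg_self] at h2
    have h3 := congrFun h2 1
    rw [ap_lo_1] at h3
    simp at h3
  · have hsV : s ∈ normalizer (V : Set G) := h.VP' (h.SP' hs)
    have hsa : s * a * s⁻¹ ∈ S := mul_mem (mul_mem hs ha) (inv_mem hs)
    have hsaR := h.SP' hsa
    have ts := t.conj hsV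
    obtain ⟨j, hj, -, -, -⟩ := nat_form h hsa ts
    have hji : j ≠ i := by
      rintro rfl
      exact hne (ts.eq t fun v hv => h.same hsaR (h.SP' ha) hj hi hv)
    have hgV : g ∈ normalizer (V : Set G) := h.VP' hg
    have hcomm : sg i (lo (1 : F)) * sg j (up (1 : F)) = sg j (up (1 : F)) * sg i (lo (1 : F)) :=
      sg_comm (sg_ne hji _) _
    have h1 := h.acts_mul (mul_mem hsaR (inv_mem hg)) hgA (h.acts_mul (inv_mem hg) hj (h.acts_inv hg hgA))
    have e : sg i (lo (1 : F)) * (sg j (up (1 : F)) * (sg i (lo (1 : F)))⁻¹) = sg j (up (1 : F)) := by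
      rw [← mul_assoc, hcomm, mul_inv_cancel_right]
    have e2 : g * (s * a * s⁻¹ * g⁻¹) = g * (s * a * s⁻¹) * g⁻¹ := by group
    rw [e, e2] at h1
    exact (ts.conj hgV).eq ts fun v hv =>
      h.same (mul_mem (mul_mem hg hsaR) (inv_mem hg)) hsaR h1 hj hv

end nat

end Cfsg.Agent.Omega.NO3S.SOne.PU

end

section


/-!
# GammaFF, (S1), `q₀ = 2`: transvections in `S` on an even-subset module with a radical (helper480)

`M : SymKM S R V D k m`, `D` arbitrary.

* `exists_cycle` : `S` contains an element which is a cycle on the letters `≠ 0` of the `j`-th block;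
* `sym_form`, `sym_conj`, `sym_move`.
-/

set_option autoImplicit false

namespace Cfsg.Agent.Omega.NO3S.SOne.PU

open Subgroup Cfsg Cfsg.Agent.ZN.ChoiceBase Cfsg.Agent.ZN.ChoiceSit
open Cfsg.Agent.Omega.FFThm
open Cfsg.Agent.Omega.NO3S.ThmB
open Cfsg.Agent.Omega.Half.SymA (cy cy_zero cy_succ cy_pow exists_cy_pow)

universe u

variable {G : Type u} [Group G]

section perm

variable {k n : ℕ}

theorem sg_pow {α : Type*} [Group α] (i : Fin k) (A : α) (n : ℕ) : sg i A ^ n = sg i (A ^ n) := by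
  induction n with
  | zero => rw [pow_zero, pow_zero, sg_one]
  | succ n ih => rw [pow_succ, pow_succ, ih, sg_mul]

/-- the conjugate of a one-block permutation -/
theorem sg_conj (σ : Equiv.Perm (Fin k)) (τ : Fin k → Equiv.Perm (Fin n)) (i : Fin k) (c : Equiv.Perm (Fin n)) :
    (fun j => τ (σ⁻¹ j) * sg i c (σ⁻¹ j) * (τ (σ⁻¹ j))⁻¹) = sg (σ i) (τ i * c * (τ i)⁻¹) := by
  funext j
  by_cases hj : j = σ i
  · subst hj
    rw [sg_self, show σ⁻¹ (σ i) = i from σ.symm_apply_apply i, sg_self]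
  · have h1 : σ⁻¹ j ≠ i := by
      intro h2
      apply hj
      rw [← h2]
      exact (σ.apply_symm_apply j).symm
    rw [sg_ne hj, sg_ne h1, mul_one, mul_inv_cancel]

theorem pr_conj (τ : Equiv.Perm (Fin n)) (j : Fin k) (x y : Fin n) :
    sg j (τ * Equiv.swap x y * τ⁻¹) = pr j (τ x) (τ y) := by
  rw [pr, Equiv.swap_apply_apply]

end perm

section sym

variable {S R V D : Subgroup G} {k m : ℕ} {M : SymKM S R V D k m}

theorem act_conj (h : Sb M) {g x : G} (hg : g ∈ R) {σ : Equiv.Perm (Fin k)}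
    {τ τ₁ : Fin k → Equiv.Perm (Fin (2 ^ m + 1))} (hx : x ∈ R) (hgA : ActsSym M.e V g σ τ) (hxA : Ac M x τ₁) :
    Ac M (g * x * g⁻¹) fun j => τ (σ⁻¹ j) * τ₁ (σ⁻¹ j) * (τ (σ⁻¹ j))⁻¹ := by
  refine ⟨fun v hv j z => ?_, fun d hd => ?_⟩
  · set i := σ⁻¹ j with hi
    have hj : j = σ i := (σ.apply_symm_apply j).symm
    set y := (τ i)⁻¹ z with hy
    have hz : z = τ i y := ((τ i).apply_symm_apply z).symm
    have hw := h.memV (inv_mem hg) hv
    set w := g⁻¹ * v * g⁻¹⁻¹ with hwd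
    have e1 : g * w * g⁻¹ = v := by rw [hwd]; group
    have e2 : g * x * g⁻¹ * v * (g * x * g⁻¹)⁻¹ = g * (x * w * x⁻¹) * g⁻¹ := by rw [hwd]; group
    have h1 := hgA _ (h.memV hx hw) i (τ₁ i y)
    have h2 := hxA.1 w hw i y
    have h3 := hgA w hw i y
    rw [e1, ← hj, ← hz] at h3
    rw [← hj] at h1
    rw [e2, Equiv.Perm.one_apply, h3]
    change M.e (g * (x * w * x⁻¹) * g⁻¹) j (τ i (τ₁ i y)) = _
    rw [h1]
    exact h2
  · have h3 : g⁻¹ * d * g⁻¹⁻¹ ∈ D := (mem_normalizer_iff.1 (h.DP' (inv_mem hg)) _).1 hd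
    have h4 := hxA.2 _ h3
    calc g * x * g⁻¹ * d = g * (x * (g⁻¹ * d * g⁻¹⁻¹)) * g⁻¹ := by group
      _ = g * ((g⁻¹ * d * g⁻¹⁻¹) * x) * g⁻¹ := by rw [h4]
      _ = d * (g * x * g⁻¹) := by group

theorem act_conj_sg (h : Sb M) {g x : G} (hg : g ∈ R) {σ : Equiv.Perm (Fin k)}
    {τ : Fin k → Equiv.Perm (Fin (2 ^ m + 1))} (hx : x ∈ R) (hgA : ActsSym M.e V g σ τ) {i : Fin k}
    {c : Equiv.Perm (Fin (2 ^ m + 1))} (hxA : Ac M x (sg i c)) :
    Ac M (g * x * g⁻¹) (sg (σ i) (τ i * c * (τ i)⁻¹)) := by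
  have h1 := act_conj h hg hx hgA hxA
  rwa [sg_conj] at h1

theorem ac_pow (h : Sb M) {g : G} (hg : g ∈ R) {τ : Fin k → Equiv.Perm (Fin (2 ^ m + 1))} (hgA : Ac M g τ) (n : ℕ) :
    Ac M (g ^ n) (τ ^ n) := by
  induction n with
  | zero => rw [pow_zero, pow_zero]; exact Sb.ac_one
  | succ n ih => rw [pow_succ, pow_succ]; exact h.ac_mul hg ih hgA

end sym

section cycle

variable [Finite G] {S : Sylow 2 G} {R V D : Subgroup G} {k m : ℕ} {M : SymKM (S : Subgroup G) R V D k m}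

theorem cy_fix {m : ℕ} (hm : 1 ≤ m) {x : Fin (2 ^ m + 1)} (h : cy m x = x) : x = 0 := by
  by_contra hne
  obtain ⟨a, rfl⟩ := Fin.exists_succ_eq.2 hne
  rw [cy_succ, Fin.succ_inj] at h
  have e3 : (1 : Fin (2 ^ m)) = 0 := add_eq_left.1 h
  have h7 : 1 < 2 ^ m := Nat.one_lt_two_pow (by omega)
  have e4 := congrArg Fin.val e3
  rw [Fin.val_one', Fin.val_zero, Nat.mod_eq_of_lt h7] at e4
  exact one_ne_zero e4

/-- `c` is transitive on the letters `≠ 0` -/
def Tr0 {n : ℕ} [NeZero n] (c : Equiv.Perm (Fin n)) : Prop := ∀ x y : Fin n, x ≠ 0 → y ≠ 0 → ∃ j : ℕ, (c ^ j) x = y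

theorem Tr0.conj {n : ℕ} [NeZero n] {c τ : Equiv.Perm (Fin n)} (h : Tr0 c) (hτ : τ 0 = 0) : Tr0 (τ * c * τ⁻¹) := by
  intro x y hx hy
  have hτ' : τ⁻¹ 0 = 0 := by
    have h1 := τ.symm_apply_apply 0
    rwa [hτ] at h1
  have h0 : ∀ z, z ≠ 0 → τ⁻¹ z ≠ 0 := by
    intro z hz h1
    apply hz
    rw [← hτ'] at h1
    exact τ⁻¹.injective h1
  obtain ⟨j, hj⟩ := h _ _ (h0 x hx) (h0 y hy)
  refine ⟨j, ?_⟩
  rw [conj_pow, Equiv.Perm.mul_apply, Equiv.Perm.mul_apply, hj]
  exact τ.apply_symm_apply y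

/-- `S` contains an element which is a cycle on the letters `≠ 0` of the `j`-th block and trivial elsewhere -/
theorem exists_cycle (h : Sb M) (j : Fin k) : ∃ s ∈ (S : Subgroup G), ∃ c, Ac M s (sg j c) ∧ Tr0 c := by
  have hm : 1 ≤ m := le_trans (by norm_num) h.m2
  obtain ⟨h₀, hh, hact, hD⟩ := M.lift (sg j (cy m))
  have hA : Ac M h₀ (sg j (cy m)) := ⟨hact, hD⟩
  obtain ⟨a, N, hN, hord⟩ := Nat.exists_eq_two_pow_mul_odd (orderOf_pos h₀).ne'
  obtain ⟨u, hu⟩ : ∃ u, N * u ≡ 1 [MOD 2 ^ m] := by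
    obtain ⟨u, -, hu⟩ := Nat.exists_mul_mod_eq_of_coprime (n := N) (k := 2 ^ m) 1
      (Nat.Coprime.pow_right m (Nat.coprime_two_right.2 hN)) (by positivity)
    exact ⟨u, hu⟩
  have hcN : cy m ^ (N * u) = cy m := by
    have := pow_eq_pow_of_modEq hu (cy_pow m)
    rwa [pow_one] at this
  have h2 := ac_pow h hh hA (N * u)
  rw [sg_pow, hcN] at h2
  have hp2 : IsPGroup 2 (zpowers (h₀ ^ (N * u))) := by
    have e : (h₀ ^ (N * u)) ^ 2 ^ a = 1 := by
      rw [← pow_mul]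
      apply orderOf_dvd_iff_pow_eq_one.1
      rw [hord]
      exact ⟨u, by ring⟩
    rintro ⟨x, n, rfl⟩
    refine ⟨a, Subtype.ext ?_⟩
    change ((h₀ ^ (N * u)) ^ n) ^ 2 ^ a = 1
    rw [← zpow_natCast, ← zpow_mul, mul_comm n, zpow_mul, zpow_natCast, e, one_zpow]
  have hle : zpowers (h₀ ^ (N * u)) ≤ R := zpowers_le.2 (pow_mem hh _)
  obtain ⟨g, hg, hgS⟩ := Half.SymA.exists_conj_le S h.SP' hp2 hle
  have h3 := hgS _ (mem_zpowers _)
  obtain ⟨σ, τ, hσ⟩ := M.perm g hg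
  have h4 := act_conj_sg h hg (pow_mem hh _) hσ h2
  set s := g * h₀ ^ (N * u) * g⁻¹ with hs
  set c₁ := τ j * cy m * (τ j)⁻¹ with hc₁
  have h5 : c₁ 0 = 0 := by
    have := M.fix0 s h3 1 _ h4.1 (σ j)
    rwa [sg_self] at this
  have h6 : (τ j)⁻¹ 0 = 0 := by
    apply cy_fix hm
    rw [Equiv.Perm.eq_inv_iff_eq]
    exact h5
  have h6' : τ j 0 = 0 := by
    have h7 := (τ j).apply_symm_apply 0
    rwa [show (τ j).symm 0 = 0 from h6] at h7
  have htr : Tr0 c₁ := by
    refine Tr0.conj (fun x y hx hy => ?_) h6'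
    exact exists_cy_pow m hx hy
  obtain ⟨t, ht, σ', τ', ht', hij⟩ := M.trans (σ j) j
  have h7 := act_conj_sg h (h.SP' ht) (h.SP' h3) ht' h4
  rw [hij] at h7
  exact ⟨t * s * t⁻¹, mul_mem (mul_mem ht h3) (inv_mem ht), _, h7, htr.conj (M.fix0 t ht σ' τ' ht' _)⟩

end cycle

/-! ### Transvections -/

section tv

variable [Finite G]

section form

variable {S R V D : Subgroup G} {k m : ℕ} {M : SymKM S R V D k m}

/-- a transvection in `S` acts as one transposition -/
theorem sym_form (h : Sb M) {a r : G} (ha : a ∈ S) (t : Tvc V a r) :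
    ∃ i x y, x ≠ y ∧ x ≠ 0 ∧ y ≠ 0 ∧ Ac M a (pr i x y) ∧ M.e r = dl i x + dl i y := by
  have haR : a ∈ R := h.SP' ha
  have haV : a ∈ normalizer (V : Set G) := h.VP' haR
  have hr : r ∈ V := t.mem haV
  obtain ⟨hd, hI⟩ := M.offM (zpowers a) (zpowers_le.2 ha) (t.off h.V2 haV)
  obtain ⟨τ, hτ, hs⟩ := hI a (mem_zpowers a)
  have hda := hd a (mem_zpowers a)
  obtain ⟨i, x, hx⟩ : ∃ i x, τ i x ≠ x := by
    by_contra hcon
    push Not at hcon
    obtain ⟨v, hv, hn⟩ := t.mv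
    apply hn
    have e : τ = 1 := by
      funext l
      ext1 y
      exact hcon l y
    rw [e] at hτ
    rw [mul_inv_eq_iff_eq_mul]
    exact h.comm_of_one haR ⟨hτ, hda⟩ hv
  obtain ⟨-, b, hb, hbb⟩ := hs i x hx
  set y := τ i x with hy
  have hxy : x ≠ y := fun h0 => hx h0.symm
  have hab : ActsSym M.e V a 1 (pr i x y) := by
    rcases t.zp h.V2 haV hb with h4 | h4
    · exfalso
      have h5 : ActsSym M.e V 1 1 (pr i x y) := by
        intro v hv l z
        have h6 := hbb v hv l z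
        rw [h4 v hv] at h6
        rw [one_mul, inv_one, mul_one]
        exact h6
      have h6 := congrFun (h.faith h5) i
      rw [pr, sg_self] at h6
      have h7 := Equiv.congr_fun h6 x
      rw [Equiv.swap_apply_left] at h7
      exact hxy h7.symm
    · intro v hv l z
      rw [← h4 v hv]
      exact hbb v hv l z
  have h0 : Equiv.swap x y 0 = 0 := by
    have := M.fix0 a ha 1 _ hab i
    rwa [pr, sg_self] at this
  have hx0 : x ≠ 0 := by
    intro hc
    rw [← hc, Equiv.swap_apply_left] at h0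
    exact hxy h0.symm
  have hy0 : y ≠ 0 := by
    intro hc
    rw [← hc, Equiv.swap_apply_right] at h0
    exact hxy h0
  refine ⟨i, x, y, hxy, hx0, hy0, ⟨hab, hda⟩, ?_⟩
  obtain ⟨v, hv, hve⟩ := Sb.exists_pair M i x 0
  have h1 : M.e (a * v * a⁻¹) = dl i y + dl i 0 := by
    rw [Sb.e_pair hab hv hve, pr, sg_self, Equiv.swap_apply_left,
      Equiv.swap_apply_of_ne_of_ne (Ne.symm hx0) (Ne.symm hy0)]
  have h2 : a * v * a⁻¹ ≠ v := by
    intro h3
    rw [h3, hve] at h1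
    have h4 := congrFun (congrFun h1 i) x
    rw [Pi.add_apply, Pi.add_apply, Pi.add_apply, Pi.add_apply, dl_self, dl_ne i hx0, dl_ne i hxy, add_zero,
      add_zero] at h4
    exact one_ne_zero h4
  have h3 := (t.cm v hv).resolve_left h2
  rw [h3, M.mul r hr v hv, hve] at h1
  have h4 : M.e r = (M.e r + (dl i x + dl i 0)) + (dl i x + dl i 0) := by
    rw [add_assoc, add_self2, add_zero]
  rw [h4, h1]
  have : dl i y + dl i 0 + (dl i x + dl i 0) = (dl i x + dl i y) + (dl i 0 + dl i 0) := by abel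
  rw [this, add_self2, add_zero]

/-- an element which moves the centre of `a` and fixes all its other conjugates under `S` -/
theorem sym_move (h : Sb M) {a r : G} (ha : a ∈ S) (t : Tvc V a r) :
    ∃ g ∈ R, g * r * g⁻¹ ≠ r ∧ ∀ s ∈ S, s * r * s⁻¹ ≠ r → g * (s * r * s⁻¹) * g⁻¹ = s * r * s⁻¹ := by
  obtain ⟨i, x, y, hxy, hx0, hy0, hA, hre⟩ := sym_form h ha t
  obtain ⟨g, hg, hgA⟩ := M.lift (pr i x 0)
  have hrV := t.mem (h.VP' (h.SP' ha))
  refine ⟨g, hg, fun h1 => ?_, fun s hs hne => ?_⟩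
  · have h2 := Sb.e_pair hgA.1 hrV hre
    rw [h1, hre, pr, sg_self, Equiv.swap_apply_left,
      Equiv.swap_apply_of_ne_of_ne (Ne.symm hxy) hy0] at h2
    have h4 := congrFun (congrFun h2 i) x
    rw [Pi.add_apply, Pi.add_apply, Pi.add_apply, Pi.add_apply, dl_self, dl_ne i hx0, dl_ne i hxy, add_zero,
      add_zero] at h4
    exact one_ne_zero h4
  · have hsV : s ∈ normalizer (V : Set G) := h.VP' (h.SP' hs)
    have hsa : s * a * s⁻¹ ∈ S := mul_mem (mul_mem hs ha) (inv_mem hs)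
    have hsaR := h.SP' hsa
    have ts := t.conj hsV
    obtain ⟨j, x', y', hxy', hx0', hy0', hA', -⟩ := sym_form h hsa ts
    have hsame : ¬ pr j x' y' = pr i x y := by
      intro he
      rw [he] at hA'
      exact hne (ts.eq t fun v hv => h.same hsaR (h.SP' ha) hA' hA hv)
    have hfx : ∀ z, z ≠ 0 → (j = i → z ≠ x) → (pr i x 0) j z = z := by
      intro z hz hzx
      by_cases hj : j = i
      · subst hj
        rw [pr, sg_self, Equiv.swap_apply_of_ne_of_ne (hzx rfl) hz]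
      · rw [pr, sg_ne hj]; rfl
    have h1 : (pr i x 0) j x' = x' := by
      refine hfx x' hx0' ?_
      rintro rfl rfl
      apply hsame
      rw [h.disj ha hsa (Ne.symm hxy) (Ne.symm hxy') hA.1 hA'.1]
    have h2 : (pr i x 0) j y' = y' := by
      refine hfx y' hy0' ?_
      rintro rfl rfl
      apply hsame
      have e : pr j x' y' = pr j y' x' := by unfold pr; rw [Equiv.swap_comm]
      rw [e] at hA' ⊢
      rw [h.disj ha hsa (Ne.symm hxy) hxy' hA.1 hA'.1]
    have hcomm := Sb.pr_comm h1 h2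
    have h3 := h.ac_mul (mul_mem hsaR (inv_mem hg)) hgA (h.ac_mul (inv_mem hg) hA' (h.ac_inv hg hgA))
    have e : pr i x 0 * (pr j x' y' * (pr i x 0)⁻¹) = pr j x' y' := by
      rw [← mul_assoc, hcomm, mul_inv_cancel_right]
    have e2 : g * (s * a * s⁻¹ * g⁻¹) = g * (s * a * s⁻¹) * g⁻¹ := by group
    rw [e, e2] at h3
    exact (ts.conj (h.VP' hg)).eq ts fun v hv =>
      h.same (mul_mem (mul_mem hg hsaR) (inv_mem hg)) hsaR h3 hA' hv

end form

section conj

variable {S : Sylow 2 G} {R V D : Subgroup G} {k m : ℕ} {M : SymKM (S : Subgroup G) R V D k m}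

/-- the centres of the transvections in `S` are conjugate -/
theorem sym_conj (h : Sb M) {a r b s : G} (ha : a ∈ (S : Subgroup G)) (hb : b ∈ (S : Subgroup G))
    (t : Tvc V a r) (t' : Tvc V b s) : ∃ x ∈ (S : Subgroup G), s = x * r * x⁻¹ := by
  obtain ⟨i, x, y, hxy, hx0, hy0, hA, -⟩ := sym_form h ha t
  obtain ⟨j, x', y', hxy', hx0', hy0', hB, -⟩ := sym_form h hb t'
  obtain ⟨p, hp, σ, τ, hpA, hij⟩ := M.trans i j
  have h1 := act_conj_sg h (h.SP' hp) (h.SP' ha) hpA hA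
  rw [hij, pr_conj] at h1
  have h0 : τ i 0 = 0 := M.fix0 p hp σ τ hpA i
  obtain ⟨q, hq, c, hqA, hc⟩ := exists_cycle h j
  obtain ⟨n, hn⟩ := hc (τ i x) x' (fun h2 => hx0 ((τ i).injective (h2.trans h0.symm))) hx0'
  have hqn : q ^ n ∈ (S : Subgroup G) := pow_mem hq n
  have hqA' := ac_pow h (h.SP' hq) hqA n
  have hpa : p * a * p⁻¹ ∈ (S : Subgroup G) := mul_mem (mul_mem hp ha) (inv_mem hp)
  have h2 := act_conj_sg h (h.SP' hqn) (h.SP' hpa) hqA'.1 h1
  rw [sg_pow, Equiv.Perm.one_apply, sg_self, pr_conj, hn] at h2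
  set u := q ^ n * p with hu
  have huS : u ∈ (S : Subgroup G) := mul_mem hqn hp
  have e : q ^ n * (p * a * p⁻¹) * (q ^ n)⁻¹ = u * a * u⁻¹ := by rw [hu]; group
  rw [e] at h2
  have hua : u * a * u⁻¹ ∈ (S : Subgroup G) := mul_mem (mul_mem huS ha) (inv_mem huS)
  have tu := t.conj (h.VP' (h.SP' huS))
  have hne : (c ^ n) (τ i y) ≠ x' := by
    rw [← hn]
    intro h3
    exact hxy ((τ i).injective ((c ^ n).injective h3)).symm
  have h3 := h.disj hua hb hne (Ne.symm hxy') h2.1 hB.1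
  rw [h3] at h2
  exact ⟨u, huS, t'.eq tu fun v hv => h.same (h.SP' hb) (h.SP' hua) hB h2 hv⟩

end conj

end tv

end Cfsg.Agent.Omega.NO3S.SOne.PU

end
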