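import Cfsg.Agent.Mrg.Omega.NO3S.Pas.Inst
import Cfsg.Agent.Mrg.Omega.NO3S.SOne.PU.Tv


/-!
# GammaFF, (S1), (T5) of #22459: `Two S P₁` from the FF theorem (helper480)

* `two_of_nat` : natural modules over the field of order 2, radical `cv S P₁` arbitrary;
* `two_of_sym` : even-subset modules, radical `cv S P₁` arbitrary.
-/

set_option autoImplicit false
set_option linter.unusedSectionVars false

namespace Cfsg.Agent.Omega.NO3S.SOne.PU

open Subgroup Cfsg Cfsg.Agent.ZN Cfsg.Agent.Omega.MinPar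
open Cfsg.Agent.Omega.FFThm
open Cfsg.Agent.Omega.NO3S.ThmB
open Cfsg.Agent.Omega.FrameFF (cv)
open Cfsg.Agent.Omega.HOne (cv_le le_normalizer_cv conj_mem_zl conj_mem_cv)
open Cfsg.Agent.ZN.ChoiceSit (Syl)
open Cfsg.Agent.Lib.SL2Mat
open Cfsg.Agent.Omega.NatPair (ap)
open Cfsg.Agent.Omega.NOThreeL.NF.NatR (Const)
open scoped Pointwise

universe u

variable {G : Type u} [Group G]

/-- `a ∈ A` is a transvection on `V` with centre `r`, all elements of `A` act trivially or as transvections with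
centre `r` -/
structure TvA (V A : Subgroup G) (a r : G) : Prop where
  mem : a ∈ A
  tv : Tvc V a r
  all : ∀ x ∈ A, ∀ v ∈ V, x * v * x⁻¹ = v ∨ x * v * x⁻¹ = r * v

theorem TvA.comm_eq {V A : Subgroup G} {a r : G} (h : TvA V A a r) : ⁅V, A⁆ = zpowers r := by
  refine le_antisymm (commutator_le.2 fun v hv x hx => ?_) (zpowers_le.2 ?_)
  · rw [commutatorElement_def]
    have e : v * x * v⁻¹ * x⁻¹ = v * (x * v * x⁻¹)⁻¹ := by group
    rw [e]
    rcases h.all x hx v hv with h1 | h1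
    · rw [h1, mul_inv_cancel]
      exact one_mem _
    · rw [h1, mul_inv_rev, mul_inv_cancel_left]
      exact inv_mem (mem_zpowers r)
  · obtain ⟨v, hv, h1⟩ := h.tv.ex
    have h2 := commutator_mem_commutator hv h.mem
    rw [commutatorElement_def] at h2
    have e : v * a * v⁻¹ * a⁻¹ = r⁻¹ := by
      calc v * a * v⁻¹ * a⁻¹ = v * (a * v * a⁻¹)⁻¹ := by group
        _ = r⁻¹ := by rw [h1, mul_inv_rev, mul_inv_cancel_left]
    rw [e] at h2
    exact (inv_mem_iff).1 h2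

/-- all commutators with `ν` are `1` or `r`, constant commutators -/
theorem TvA.of_const {V A : Subgroup G} {a ν : G} (hν : ν ∈ V) (ha : a ∈ A) (hc : Const V A)
    (hmv : a * ν * a⁻¹ ≠ ν) (key : ∀ x ∈ A, x * ν * x⁻¹ = ν ∨ x * ν * x⁻¹ = a * ν * a⁻¹) :
    TvA V A a (a * ν * a⁻¹ * ν⁻¹) := by
  have hνc : ν ∉ centralizer (A : Set G) := by
    intro h1
    apply hmv
    rw [mem_centralizer_iff.1 h1 a ha, mul_inv_cancel_right]
  have hall : ∀ x ∈ A, ∀ v ∈ V, x * v * x⁻¹ = v ∨ x * v * x⁻¹ = a * ν * a⁻¹ * ν⁻¹ * v := by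
    intro x hx v hv
    by_cases hvc : v ∈ centralizer (A : Set G)
    · left
      rw [mem_centralizer_iff.1 hvc x hx, mul_inv_cancel_right]
    · obtain ⟨b, hb, h1⟩ := hc v hv hvc ν hν hνc x hx
      rcases key b hb with h2 | h2
      · left
        rw [h2, mul_inv_cancel] at h1
        exact mul_inv_eq_one.1 h1
      · right
        rw [h2] at h1
        rw [← h1]
        group
  exact ⟨ha, ⟨fun v hv => hall a ha v hv, ν, hν, hmv⟩, hall⟩

/-- **`Two` from the facts on transvections.** -/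
theorem two_of {S P₁ : Subgroup G} (h1 : ∀ A, KA S P₁ A → ∃ a r, TvA (zl S P₁) A a r)
    (h2 : ∀ a ∈ S, ∀ b ∈ S, ∀ r s, Tvc (zl S P₁) a r → Tvc (zl S P₁) b s → ∃ x ∈ S, s = x * r * x⁻¹)
    (h3 : ∀ a ∈ S, ∀ r, Tvc (zl S P₁) a r → ∃ g ∈ P₁, g * r * g⁻¹ ≠ r ∧
      ∀ s ∈ S, s * r * s⁻¹ ≠ r → g * (s * r * s⁻¹) * g⁻¹ = s * r * s⁻¹) : Two S P₁ where
  cls := by
    intro A A' hA hA'
    obtain ⟨a, r, ha⟩ := h1 A hA
    obtain ⟨b, s, hb⟩ := h1 A' hA'
    obtain ⟨x, hx, h4⟩ := h2 a (hA.le ha.mem) b (hA'.le hb.mem) r s ha.tv hb.tv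
    refine ⟨x, hx, ?_⟩
    rw [ha.comm_eq, hb.comm_eq, h4]
    change _ = (zpowers r).map (MulAut.conj x).toMonoidHom
    rw [MonoidHom.map_zpowers]
    rfl
  pt := by
    intro A hA
    obtain ⟨a, r, ha⟩ := h1 A hA
    exact ⟨r, ha.tv.ne, ha.comm_eq, h3 a (hA.le ha.mem) r ha.tv⟩

section

variable [Finite G] {S : Sylow 2 G} {P₁ : Subgroup G}

theorem syl (hP₁ : IsParS (S : Subgroup G) P₁) : Syl (S : Subgroup G) P₁ := MinSimple.EmptyTI.syl_of_le hP₁.le

theorem char2 (hG : IsCharacteristicTwoType G) (hP₁ : IsParS (S : Subgroup G) P₁) :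
    P₁ ⊓ centralizer (o2 P₁ : Set G) ≤ o2 P₁ := hP₁.isLoc.char2 S hG

theorem nb (hG : IsCharacteristicTwoType G) (hP₁ : IsParS (S : Subgroup G) P₁) {F : Type} [Field F] {k : ℕ}
    (M : NatKM F (S : Subgroup G) P₁ (zl (S : Subgroup G) P₁) (cv (S : Subgroup G) P₁) k) : Nb M := by
  have hT := syl hP₁
  have hc := char2 hG hP₁
  refine ⟨hT.1, OM.BlkGen.zl_elem hT hc, ZN.le_normalizer_zl _ _, cv_le _ _, le_normalizer_cv _ _, ?_⟩
  intro g hg h1 h2 v hv
  refine NSix.HTwo.Vec.triv hT hc (cv_le _ _) (le_normalizer_cv _ _) hg (fun w hw => ?_) h2 hv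
  have hgw := conj_mem_zl hg hw
  refine (M.ker _ (mul_mem hgw (inv_mem hw))).1 ?_
  rw [M.mul _ hgw _ (inv_mem hw), h1 w hw, ← M.mul w hw _ (inv_mem hw), mul_inv_cancel]
  exact Nb.e_one

theorem sb (hG : IsCharacteristicTwoType G) (hP₁ : IsParS (S : Subgroup G) P₁) {k m : ℕ} (hm : 2 ≤ m)
    (M : SymKM (S : Subgroup G) P₁ (zl (S : Subgroup G) P₁) (cv (S : Subgroup G) P₁) k m) : Sb M := by
  have hT := syl hP₁
  have hc := char2 hG hP₁
  refine ⟨hm, S.isPGroup', hT.1, OM.BlkGen.zl_elem hT hc, ZN.le_normalizer_zl _ _, cv_le _ _, le_normalizer_cv _ _, ?_⟩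
  intro g hg h1 h2 v hv
  refine NSix.HTwo.Vec.triv hT hc (cv_le _ _) (le_normalizer_cv _ _) hg (fun w hw => ?_) h2 hv
  have hgw := conj_mem_zl hg hw
  refine (M.ker _ (mul_mem hgw (inv_mem hw))).1 ?_
  rw [M.mul _ hgw _ (inv_mem hw), h1 w hw, ← M.mul w hw _ (inv_mem hw), mul_inv_cancel]
  exact Sb.e_one

/-! ### Natural modules over the field of order 2 -/

theorem tva_nat {F : Type} [Field F] [CharP F 2] (hF : ∀ c : F, c = 0 ∨ c = 1) {T R V D : Subgroup G} {k : ℕ}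
    {M : NatKM F T R V D k} (h : Nb M) {A : Subgroup G} (hAT : A ≤ T) (hoff : OffM V A) (hc : Const V A) :
    ∃ a r, TvA V A a r := by
  obtain ⟨I, h1, h2⟩ := M.offM A hAT hoff
  have hne : I.Nonempty := by
    rw [Set.nonempty_iff_ne_empty]
    rintro rfl
    refine hoff.ne fun a ha => ?_
    obtain ⟨b, hb, hac⟩ := h1 a ha
    rw [mem_centralizer_iff]
    intro v hv
    refine (h.comm_of_one (h.SP' (hAT ha)) ?_ hv).symm
    have e : (fun i => up (b i)) = (1 : Fin k → Matrix.SpecialLinearGroup (Fin 2) F) := by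
      funext l
      rw [hb l (Set.notMem_empty l), up_zero]
      rfl
    rwa [e] at hac
  obtain ⟨i, hi⟩ := hne
  obtain ⟨a, ha, haA⟩ := h2 (Pi.single i 1) fun l hl => by
    rw [Pi.single_eq_of_ne]
    rintro rfl
    exact hl hi
  have haR := h.SP' (hAT ha)
  obtain ⟨ν, hν, hνi, hνl⟩ := Nb.exists_single M i ![0, 1]
  refine ⟨a, _, TvA.of_const hν ha hc (fun h3 => ?_) fun x hx => ?_⟩
  · have h4 := h.up_entry haA hν hνi
    rw [h3, hνi, Pi.single_eq_same] at h4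
    exact zero_ne_one h4
  · obtain ⟨b, -, hxA⟩ := h1 x hx
    have hxR := h.SP' (hAT hx)
    rcases hF (b i) with h3 | h3
    · left
      rw [mul_inv_eq_iff_eq_mul]
      exact h.dir hxR hxA (j := i) (by rw [h3, up_zero]) hν hνl
    · right
      have h4 := h.acts_mul hxR (h.acts_inv haR haA) hxA
      have h5 := h.dir (mul_mem (inv_mem haR) hxR) h4 (j := i)
        (by rw [Pi.mul_apply, Pi.inv_apply, h3, Pi.single_eq_same, inv_mul_cancel]) hν hνl
      calc x * ν * x⁻¹ = a * (a⁻¹ * x * ν) * x⁻¹ := by group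
        _ = a * (ν * (a⁻¹ * x)) * x⁻¹ := by rw [h5]
        _ = a * ν * a⁻¹ := by group

/-- **`Two`, natural modules.** -/
theorem two_of_nat (hG : IsCharacteristicTwoType G) (hP₁ : IsParS (S : Subgroup G) P₁) {F : Type} [Field F]
    [CharP F 2] (hF : ∀ c : F, c = 0 ∨ c = 1) {k : ℕ}
    (M : NatKM F (S : Subgroup G) P₁ (zl (S : Subgroup G) P₁) (cv (S : Subgroup G) P₁) k) :
    Two (S : Subgroup G) P₁ := by
  have h := nb hG hP₁ M
  exact two_of (fun A hA => tva_nat hF h hA.le hA.off hA.const)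
    (fun a ha b hb r s t t' => nat_conj h ha hb t t') fun a ha r t => nat_move h ha t

/-! ### Even-subset modules -/

theorem tva_sym {T R V D : Subgroup G} {k m : ℕ} {M : SymKM T R V D k m} (h : Sb M) {A : Subgroup G} (hAT : A ≤ T)
    (hoff : OffM V A) (hc : Const V A) : ∃ a r, TvA V A a r := by
  obtain ⟨hd, hI⟩ := M.offM A hAT hoff
  obtain ⟨a₀, ha₀, hc₀⟩ := SetLike.not_le_iff_exists.mp hoff.ne
  obtain ⟨τ₀, hτ₀, hs₀⟩ := hI a₀ ha₀
  have ha₀R : a₀ ∈ R := h.SP' (hAT ha₀)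
  obtain ⟨i, x, hx⟩ : ∃ i x, τ₀ i x ≠ x := by
    by_contra hcon
    push Not at hcon
    apply hc₀
    rw [mem_centralizer_iff]
    intro v hv
    have e : τ₀ = 1 := by
      funext l
      ext1 y
      exact hcon l y
    rw [e] at hτ₀
    exact (h.comm_of_one ha₀R ⟨hτ₀, hd a₀ ha₀⟩ hv).symm
  obtain ⟨hinv, b₀, hb₀, hbact⟩ := hs₀ i x hx
  set y := τ₀ i x with hy
  have hx0 : x ≠ 0 := by
    rintro rfl
    exact hx (M.fix0 a₀ (hAT ha₀) 1 τ₀ hτ₀ i)
  have hy0 : y ≠ 0 := by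
    intro h0
    rw [h0, M.fix0 a₀ (hAT ha₀) 1 τ₀ hτ₀ i] at hinv
    exact hx0 hinv.symm
  have hxy : x ≠ y := fun h0 => hx h0.symm
  have hb₀R : b₀ ∈ R := h.SP' (hAT hb₀)
  have hbAc : Ac M b₀ (pr i x y) := ⟨hbact, hd b₀ hb₀⟩
  obtain ⟨ν, hν, hνe, hfix⟩ := h.nx hxy hx0 hy0 (i := i)
  have hbν : M.e (b₀ * ν * b₀⁻¹) = dl i y + dl i 0 := by
    rw [Sb.e_pair hbact hν hνe]
    have e : (pr i x y) i = Equiv.swap x y := sg_self _ _
    change dl i ((pr i x y) i x) + dl i ((pr i x y) i 0) = _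
    rw [e, Equiv.swap_apply_left, Equiv.swap_apply_of_ne_of_ne (Ne.symm hx0) (Ne.symm hy0)]
  refine ⟨b₀, _, TvA.of_const hν hb₀ hc (fun e => ?_) fun a ha => ?_⟩
  · rw [e, hνe] at hbν
    have h1 := congrFun (congrFun hbν i) x
    rw [Pi.add_apply, Pi.add_apply, Pi.add_apply, Pi.add_apply, dl_self, dl_ne i hx0, dl_ne i hxy] at h1
    rw [add_zero, add_zero] at h1
    exact one_ne_zero h1
  · obtain ⟨τ, hτ, hs⟩ := hI a ha
    have haT := hAT ha
    have h0 : τ i 0 = 0 := M.fix0 a haT 1 τ hτ i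
    by_cases hxa : τ i x = x
    · left
      have hya : τ i y = y := by
        by_contra hc
        obtain ⟨hinv', b, hb, hbb⟩ := hs i y hc
        have h2 := h.disj (hAT hb₀) (hAT hb) (i := i) (x := y) (y := x) (z := τ i y) hxy hc
          (by
            have e : pr i y x = pr i x y := by unfold pr; rw [Equiv.swap_comm]
            rw [e]; exact hbact) hbb
        rw [← h2, hxa] at hinv'
        exact hxy hinv'
      rw [mul_inv_eq_iff_eq_mul]
      exact hfix a (h.SP' haT) τ ⟨hτ, hd a ha⟩ hxa hya h0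
    · right
      obtain ⟨hinv', b, hb, hbb⟩ := hs i x hxa
      have h2 := h.disj (hAT hb₀) (hAT hb) (i := i) (x := x) (y := y) (z := τ i x) (Ne.symm hxy) hxa
        hbact hbb
      have haR : a ∈ R := h.SP' haT
      have h3 := h.ac_mul haR (h.ac_inv hb₀R hbAc) (⟨hτ, hd a ha⟩ : Ac M a τ)
      have e : (pr i x y) i = Equiv.swap x y := sg_self _ _
      have e1 : ((pr i x y)⁻¹ * τ) i = Equiv.swap x y * τ i := by
        rw [Pi.mul_apply, Pi.inv_apply, e, Equiv.swap_inv]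
      rw [← h2] at hinv'
      have h4 := hfix _ (mul_mem (inv_mem hb₀R) haR) _ h3
        (by rw [e1, Equiv.Perm.mul_apply, ← h2, Equiv.swap_apply_right])
        (by rw [e1, Equiv.Perm.mul_apply, hinv', Equiv.swap_apply_left])
        (by rw [e1, Equiv.Perm.mul_apply, h0, Equiv.swap_apply_of_ne_of_ne (Ne.symm hx0) (Ne.symm hy0)])
      calc a * ν * a⁻¹ = b₀ * (b₀⁻¹ * a * ν) * a⁻¹ := by group
        _ = b₀ * (ν * (b₀⁻¹ * a)) * a⁻¹ := by rw [h4]
        _ = b₀ * ν * b₀⁻¹ := by group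

/-- **`Two`, even-subset modules.** -/
theorem two_of_sym (hG : IsCharacteristicTwoType G) (hP₁ : IsParS (S : Subgroup G) P₁) {k m : ℕ} (hm : 2 ≤ m)
    (M : SymKM (S : Subgroup G) P₁ (zl (S : Subgroup G) P₁) (cv (S : Subgroup G) P₁) k m) :
    Two (S : Subgroup G) P₁ := by
  have h := sb hG hP₁ hm M
  exact two_of (fun A hA => tva_sym h hA.le hA.off hA.const)
    (fun a ha b hb r s t t' => sym_conj h ha hb t t') fun a ha r t => sym_move h ha t

end

end Cfsg.Agent.Omega.NO3S.SOne.PU
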