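import Cfsg.Agent.Mrg.Omega.NO3S.SOne.KA
import Cfsg.Agent.Mrg.Omega.NO3S.SOne.PU.TwoOf
import Cfsg.Agent.Mrg.Omega.NO3S.SOne.NTGen
import Cfsg.Agent.Mrg.Omega.NO3S.SOne.Bad
import Cfsg.Agent.Mrg.Omega.NO3S.Pas.Inst
import Cfsg.Agent.Mrg.Omega.FF.GlobEnd

section


/-!
# GammaFF, (S1), `q₀ = 2`: the end (helper480, #21693; (T5) of #22459)

* `SO.false_of_two` : `SO`, `Key V F B`, `Two S P₁`, `C_Z(P) = 1` and the passivity of `P` for all conjugates of `W` under
  `⟨P, P₁⟩` are contradictory (the field `pas` of `SO` is not used).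
-/

set_option autoImplicit false

namespace Cfsg.Agent.Omega.NO3S.SOne

open Subgroup Cfsg Cfsg.Agent.ZN Cfsg.Agent.Omega.MinPar
open Cfsg.Agent.Omega.NOne.Flat (EE NN conj_eq_of_norm)
open Cfsg.Agent.Omega.NO3S.Pas (Key)
open Cfsg.Agent.Omega.NoFF.Basic (conj_conj mem_conj conj_le_iff conj_le_centralizer)
open scoped Pointwise

universe u

variable {G : Type u} [Group G] [Finite G] {S : Sylow 2 G} {V F B P P₁ : Subgroup G}

omit [Finite G] in
theorem PU.conj_zpowers (g r : G) : MulAut.conj g • zpowers r = zpowers (g * r * g⁻¹) := by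
  change (zpowers r).map (MulAut.conj g).toMonoidHom = _
  rw [MonoidHom.map_zpowers]
  rfl

omit [Finite G] in
theorem PU.conj_commutator (g : G) (A C : Subgroup G) :
    MulAut.conj g • ⁅A, C⁆ = ⁅MulAut.conj g • A, MulAut.conj g • C⁆ := Subgroup.map_commutator _ _ _

namespace SO

variable (so : SO S V F B P P₁)
include so

/-- `⁅L₁, W^y⁆ = ⁅L₁, W⁆^y` for `W^y ≤ S` which moves `L₁` -/
theorem comm_conj_two (hk : Key V F B) {y : G} (hy : y ∈ P ⊔ P₁)
    (hS : MulAut.conj y • NOne.Flat.WW V F ≤ (S : Subgroup G))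
    (hmov : ¬ MulAut.conj y • NOne.Flat.WW V F ≤ centralizer (zl (S : Subgroup G) P₁ : Set G)) :
    ⁅zl (S : Subgroup G) P₁, MulAut.conj y • NOne.Flat.WW V F⁆ =
      MulAut.conj y • ⁅zl (S : Subgroup G) P₁, NOne.Flat.WW V F⁆ := by
  have hy' := inv_mem hy
  have hI := so.line_le_I hy' (by rw [le_conj_iff, inv_inv]; exact hS)
  have hmv : ¬ NOne.Flat.WW V F ≤
      centralizer ((MulAut.conj y⁻¹ • zl (S : Subgroup G) P₁ : Subgroup G) : Set G) := by
    intro h1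
    apply hmov
    have h2 := conj_le_centralizer (g := y) h1
    rwa [conj_smul_inv] at h2
  rw [so.comm_eq hk so.L_le_I hI so.mov hmv, PU.conj_commutator, conj_smul_inv]

/-- **(S1), `q₀ = 2`.** -/
theorem false_of_two (hk : Key V F B) (two : Two (S : Subgroup G) P₁)
    (hCP : zc (S : Subgroup G) ⊓ centralizer (P : Set G) = ⊥)
    (hpas : ∀ y ∈ P ⊔ P₁, MulAut.conj y • NOne.Flat.WW V F ≤ (S : Subgroup G) →
      MulAut.conj y • NOne.Flat.WW V F ≤ o2 P) : False := by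
  have hVc : ∀ x ∈ V, ∀ y ∈ V, x * y = y * x := fun x hx y hy => mem_centralizer_iff.1 (so.comm hy) x hx
  have hka1 := so.ka_one hk
  obtain ⟨r, hr1, hr, g₀, hg₀, hmv, hfx⟩ := two.pt _ hka1
  have hWN : NOne.Flat.WW V F ≤ normalizer (zl (S : Subgroup G) P₁ : Set G) :=
    so.WS.trans (so.SP₁.trans so.PL)
  have hrV : r ∈ V := by
    have h1 : r ∈ ⁅zl (S : Subgroup G) P₁, NOne.Flat.WW V F⁆ := by rw [hr]; exact mem_zpowers r
    exact so.L_le_V (le_normalizer_iff_commutator_le_left.1 hWN h1)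
  have hr2 : r ^ 2 = 1 := so.sq r hrV
  have hQS : o2 P₁ ≤ (S : Subgroup G) := by
    rw [← so.o2_eq]
    exact inf_le_left
  have hQPS : o2 P ≤ (S : Subgroup G) := by
    rw [← so.hP.inf_centralizer S so.hc]
    exact inf_le_left
  refine Par.par (S := (S : Subgroup G)) (P := P) (P₁ := P₁) (Q₁ := o2 P₁) (V := V) hVc so.PV so.P₁V so.SP
    (fun g hg => ?_) hQS (fun v hv hvP => ?_) {w | ∃ y ∈ P ⊔ P₁, w = Par.cp y (NOne.Flat.WW V F, r)} ?_ ?_ ?_
    (W₁ := NOne.Flat.WW V F) (r₁ := r) ⟨1, one_mem _, (Par.cp_one _).symm⟩ so.WS so.act ?_ hg₀ hmv hfx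
  · exact (conj_eq_of_norm (MinSimple.VModule.le_normalizer_o2 P₁ hg)).le
  · have hvS : v ∈ (S : Subgroup G) := by
      have h1 : zpowers v ≤ normalizer ((S : Subgroup G) : Set G) := by
        rw [zpowers_le]
        refine centralizer_le_normalizer _ ?_
        rw [mem_centralizer_iff]
        intro s hs
        exact mul_inv_eq_iff_eq_mul.1 (hvP s (so.SP hs))
      have h2 : IsPGroup 2 (zpowers v) := by
        rintro ⟨x, n, rfl⟩
        refine ⟨1, Subtype.ext ?_⟩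
        change (v ^ n) ^ 2 ^ 1 = 1
        rw [pow_one, ← zpow_natCast, ← zpow_mul, mul_comm, zpow_mul, zpow_natCast, so.sq v hv, one_zpow]
      have h3 := S.2.to_sup_of_normal_left' h2 h1
      have h6 : (S : Subgroup G) ⊔ zpowers v = (S : Subgroup G) := S.3 h3 le_sup_left
      have h5 : zpowers v ≤ (S : Subgroup G) := by
        rw [← h6]
        exact le_sup_right
      exact h5 (mem_zpowers v)
    have h1 : v ∈ zc (S : Subgroup G) ⊓ centralizer (P : Set G) := by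
      refine mem_inf.2 ⟨MinSimple.VModule.mem_zc.2 ⟨hvS, fun b hb => ?_, so.sq v hv⟩, ?_⟩
      · exact mul_inv_eq_iff_eq_mul.1 (hvP b (so.SP hb))
      · rw [mem_centralizer_iff]
        intro p hp
        exact mul_inv_eq_iff_eq_mul.1 (hvP p hp)
    rwa [hCP, mem_bot] at h1
  · rintro _ ⟨y, hy, rfl⟩
    exact (mem_normalizer_iff.1 (so.YV hy) r).1 hrV
  · rintro _ ⟨y, hy, rfl⟩ g hg
    exact ⟨g * y, mul_mem hg hy, (Par.cp_mul _ _ _).symm⟩
  · rintro _ ⟨y, hy, rfl⟩ hS p hp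
    have h1 := hpas y hy hS
    have h2 : MulAut.conj p • (MulAut.conj y • NOne.Flat.WW V F) ≤ MulAut.conj p • o2 P := conj_le_iff.2 h1
    refine h2.trans ?_
    rw [conj_eq_of_norm (MinSimple.VModule.le_normalizer_o2 P hp)]
    exact hQPS
  · rintro _ ⟨y, hy, rfl⟩ hS hQ
    have hka' := so.ka hk hy hS hQ
    obtain ⟨s, hs, he⟩ := two.cls _ _ hka1 hka'
    refine ⟨s, hs, ?_⟩
    change y * r * y⁻¹ = s * r * s⁻¹
    rw [so.comm_conj_two hk hy hS hka'.off.ne, hr, PU.conj_zpowers, PU.conj_zpowers] at he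
    have h1 : y * r * y⁻¹ ∈ zpowers (s * r * s⁻¹) := by
      rw [← he]
      exact mem_zpowers _
    obtain ⟨n, hn⟩ := mem_zpowers_iff.1 h1
    have h2 : (s * r * s⁻¹) ^ 2 = 1 := by rw [conj_pow, hr2]; group
    have h3 : ∀ j : ℤ, (s * r * s⁻¹) ^ (2 * j) = 1 := by
      intro j
      rw [zpow_mul, zpow_ofNat, h2, one_zpow]
    rcases Int.even_or_odd' n with ⟨j, rfl | rfl⟩
    · exfalso
      rw [h3] at hn
      apply hr1
      have e : y * r * y⁻¹ = 1 := hn.symm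
      have e2 : r = y⁻¹ * (y * r * y⁻¹) * y := by group
      rw [e2, e]; group
    · rw [zpow_add, h3, one_mul, zpow_one] at hn
      exact hn.symm

end SO

end Cfsg.Agent.Omega.NO3S.SOne

end

section


/-!
# GammaFF, (S1) (#21629): `SO`, KEY ⟹ `False`

* `SO.false_of_nat` : `P₁` natural (radical allowed) over a field with at least four elements;
* `SO.concl` : `P₁` has one of the types of the FF theorem;
* **`SO.false_of_four`** : `|[L₁, W]| ≥ 4`;
* **`SO.false_of_pas`** : `P` is passive for all conjugates of `F` under `Y`, `C_Z(P) = 1`.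
-/

set_option autoImplicit false
set_option linter.unusedSectionVars false

namespace Cfsg.Agent.Omega.NO3S.SOne

open Subgroup Cfsg Cfsg.Agent.ZN Cfsg.Agent.Omega.MinPar
open Cfsg.Agent.Omega.FFThm (NatKM SymKM NoOverM ConclM)
open Cfsg.Agent.Omega.FrameFF (cv)
open Cfsg.Agent.Omega.NO3S.Pas (Key)
open scoped Pointwise

universe u

variable {G : Type u} [Group G] [Finite G] {S : Sylow 2 G} {V F B P P₁ : Subgroup G}

/-- a field of characteristic 2 has two or at least four elements -/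
theorem field_or (K : Type) [Field K] [Finite K] [CharP K 2] : (∀ c : K, c = 0 ∨ c = 1) ∨ 4 ≤ Nat.card K := by
  classical
  have : Fintype K := Fintype.ofFinite K
  by_cases h : 4 ≤ Nat.card K
  · exact Or.inr h
  left
  have h3 : Nat.card K = 2 := by
    obtain ⟨e, -, he⟩ := FiniteField.card K 2
    rw [Nat.card_eq_fintype_card, he] at h ⊢
    have he0 : 0 < (e : ℕ) := e.pos
    have he1 : (e : ℕ) < 2 := by
      by_contra hge
      have : 2 ^ 2 ≤ 2 ^ (e : ℕ) := Nat.pow_le_pow_right (by norm_num) (by omega)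
      omega
    have he2 : (e : ℕ) = 1 := by omega
    rw [he2, pow_one]
  rw [Nat.card_eq_two_iff' (0 : K)] at h3
  obtain ⟨y, -, hy⟩ := h3
  intro c
  by_cases hc : c = 0
  · exact Or.inl hc
  · exact Or.inr ((hy c hc).trans (hy 1 one_ne_zero).symm)

namespace SO

variable (so : SO S V F B P P₁)
include so

/-- `P₁` natural over a field with at least four elements -/
theorem false_of_nat (hk : Key V F B) {K : Type} [Field K] [Finite K] [CharP K 2] {k : ℕ}
    (M : NatKM K (S : Subgroup G) P₁ (zl (S : Subgroup G) P₁) (cv (S : Subgroup G) P₁) k) (h4 : 4 ≤ Nat.card K)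
    (no : NoOverM (zl (S : Subgroup G) P₁) P₁)
    (htr : ∀ x ∈ zc (S : Subgroup G), x ≠ 1 → ∀ y ∈ zc (S : Subgroup G), y ≠ 1 →
      ∃ h ∈ P, h ∈ normalizer ((S : Subgroup G) : Set G) ∧ h * x * h⁻¹ = y)
    (hC : zc (S : Subgroup G) ⊓ centralizer (P₁ : Set G) ≠ ⊥) : False :=
  so.false_of_NT hk (NTNat.nt_of so.hc so.hP₁ M h4 no
    (fun _ h1 h2 => NatD.exists_gen M (NatD.AmbD.of so.hc so.hP₁ M) so.hP₁ h1 h2)
    (fun _ h1 h2 => NatD.RR_inf M (NatD.AmbD.of so.hc so.hP₁ M) h1 h2)) htr hC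

/-- the type of `P₁` -/
theorem concl (hk : Key V F B) : NoOverM (zl (S : Subgroup G) P₁) P₁ ∧ ConclM (S : Subgroup G) P₁ :=
  FF.Glob.ffthmM G (S : Subgroup G) P₁ (MinSimple.EmptyTI.syl_of_le so.hP₁.le) so.hP₁.toIsMinPar
    (so.hP₁.isLoc.char2 S so.hc) ⟨NOne.Flat.WW V F, so.WS.trans so.hP₁.le, (so.ka_one hk).off⟩

/-- the interface for `q₀ = 2`, or a field with at least four elements -/
theorem two_or (hk : Key V F B)
    (htr : ∀ x ∈ zc (S : Subgroup G), x ≠ 1 → ∀ y ∈ zc (S : Subgroup G), y ≠ 1 →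
      ∃ h ∈ P, h ∈ normalizer ((S : Subgroup G) : Set G) ∧ h * x * h⁻¹ = y)
    (hC : zc (S : Subgroup G) ⊓ centralizer (P₁ : Set G) ≠ ⊥) : Two (S : Subgroup G) P₁ := by
  obtain ⟨no, hc⟩ := so.concl hk
  rcases hc with ⟨K, _, _, _, k, -, ⟨M⟩⟩ | ⟨k, m, -, hm, ⟨M⟩⟩
  · rcases field_or K with hK | hK
    · exact PU.two_of_nat so.hc so.hP₁ hK M
    · exact absurd (so.false_of_nat hk M hK no htr hC) id
  · exact PU.two_of_sym so.hc so.hP₁ hm M

/-- **(S1), KEY, `|[L₁, W]| ≥ 4`.** -/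
theorem false_of_four (hk : Key V F B)
    (htr : ∀ x ∈ zc (S : Subgroup G), x ≠ 1 → ∀ y ∈ zc (S : Subgroup G), y ≠ 1 →
      ∃ h ∈ P, h ∈ normalizer ((S : Subgroup G) : Set G) ∧ h * x * h⁻¹ = y)
    (hC : zc (S : Subgroup G) ⊓ centralizer (P₁ : Set G) ≠ ⊥)
    (h4 : 4 ≤ Nat.card ↥(⁅zl (S : Subgroup G) P₁, NOne.Flat.WW V F⁆ : Subgroup G)) : False := by
  obtain ⟨r, hr1, hr, -⟩ := (so.two_or hk htr hC).pt _ (so.ka_one hk)
  have hWN : NOne.Flat.WW V F ≤ normalizer (zl (S : Subgroup G) P₁ : Set G) :=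
    so.WS.trans (so.SP₁.trans so.PL)
  have hrL : r ∈ zl (S : Subgroup G) P₁ := by
    have h1 : r ∈ ⁅zl (S : Subgroup G) P₁, NOne.Flat.WW V F⁆ := by rw [hr]; exact mem_zpowers r
    exact le_normalizer_iff_commutator_le_left.1 hWN h1
  have h2 : r ^ 2 = 1 := MinSimple.VModule.zl_sq so.hP₁.le S.isPGroup' (MinSimple.Basic.not_dvd_relIndex S so.hP₁.le)
    (so.hP₁.isLoc.char2 S so.hc) r hrL
  rw [hr, Nat.card_zpowers] at h4
  have h3 := orderOf_le_of_pow_eq_one (by norm_num) h2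
  omega

/-- **(S1), KEY, `P` passive for all conjugates of `F`.** -/
theorem false_of_pas (hk : Key V F B)
    (htr : ∀ x ∈ zc (S : Subgroup G), x ≠ 1 → ∀ y ∈ zc (S : Subgroup G), y ≠ 1 →
      ∃ h ∈ P, h ∈ normalizer ((S : Subgroup G) : Set G) ∧ h * x * h⁻¹ = y)
    (hC : zc (S : Subgroup G) ⊓ centralizer (P₁ : Set G) ≠ ⊥)
    (hCP : zc (S : Subgroup G) ⊓ centralizer (P : Set G) = ⊥)
    (hpas : ∀ y ∈ P ⊔ P₁, MulAut.conj y • NOne.Flat.WW V F ≤ (S : Subgroup G) →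
      MulAut.conj y • NOne.Flat.WW V F ≤ o2 P) : False :=
  so.false_of_two hk (so.two_or hk htr hC) hCP hpas

end SO

end Cfsg.Agent.Omega.NO3S.SOne

end
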